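import Cfsg.Agent.Lib.Fi23Pres.Cover
import Cfsg.Agent.Lib.Fi22USix.Main

/-!
Kernel checks of words centralizing two transpositions of the presented group Fi23.
-/

set_option autoImplicit false
set_option maxRecDepth 100000

namespace CfsgLib.Fi23Inv

open CfsgLib.CosetEnum CfsgLib.Fi23Pres

/-- the balanced word in the letters of Fi23 -/
noncomputable def balFlat : List ℕ :=
  Fi22USix.balWord.flatMap fun k => Fi22USix.gword.getD k []

theorem pair_word_checks : (((List.range 8).all fun k =>
      ((Fi22USix.gword.getD k []).all fun g => Nat.blt g 9) &&
      sameBases certA levels (Fi22USix.gword.getD k [] ++ Fi22USix.gword.getD k []) [] &&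
      sameBases certA levels (Fi22USix.gword.getD k [] ++ [0]) ([0] ++ Fi22USix.gword.getD k [])) &&
    sameBases certA levels balFlat [0] && !(sameBases certA levels [0] zWord)) = true := by
  decide +kernel

end CfsgLib.Fi23Inv
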