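import Cfsg.Agent.Lib.Fi23Inv.Triples
import Cfsg.Agent.Lib.Fi23Inv.CheckPair
import Cfsg.Agent.Lib.Fi23Pres.TransClass
import Cfsg.Agent.Lib.Fi22USix.TransClass
import Cfsg.Prelude.Def_CaseTheorems
import Mathlib.GroupTheory.IsPerfect

/-!
The centralizer of two commuting transpositions of the presented group Fi23 is a perfect central extension
of `PSU₆(2)` by the group of order four they generate.
-/

set_option autoImplicit false
set_option maxRecDepth 100000

namespace CfsgLib.Fi23Inv

open CfsgLib.CosetEnum CfsgLib.Fi23Pres CfsgLib Cfsg.Spor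
open CfsgLib.HePres (K4)

theorem gen0_mem_subA : gen 0 ∈ subA := gen_mem (by norm_num)

theorem gen0_ne_central : gen 0 ≠ central := by
  have h := pair_word_checks
  simp only [Bool.and_eq_true, Bool.not_eq_true'] at h
  intro e
  exact ne_words (lt_of_blt (w := [0]) rfl) z_lt h.2 (by simpa [prodW, central] using e)

theorem gen0_trans : gen 0 ∈ transClass := by
  rw [← tr_letter (i := 0) (by norm_num)]
  exact tr_mem ⟨stdTuple.getD (0 + 1) 0, by decide +kernel⟩

theorem pair_frame : Frame transClass [central, gen 0] := by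
  have hc : Commute (gen 0) central := comm_central _ gen0_mem_subA
  refine ⟨by simp [Ne.symm gen0_ne_central], by simp, by simp, ?_, ?_⟩
  · simp only [List.mem_cons, List.not_mem_nil, or_false]
    rintro a (rfl | rfl)
    exacts [mem_conjugatesOf_self, gen0_trans]
  · simp only [List.mem_cons, List.not_mem_nil, or_false]
    rintro a (rfl | rfl) b (rfl | rfl)
    exacts [Commute.refl _, hc.symm, hc, Commute.refl _]

/-- the product of two commuting transpositions is not a transposition -/
theorem pair_prod_not_trans : gen 0 * central ∉ transClass := by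
  intro h
  have hf : Frame transClass [gen 0 * central] := ⟨by simp, by simp, by simp, by simpa using h,
    by simp⟩
  have hp : [gen 0 * central].prod = [central, gen 0].prod := by
    simp [(comm_central _ gen0_mem_subA)]
  have hu : ∀ d, d ∈ [central, gen 0] → d = gen 0 * central := fun d hd => by
    have := (frame_universal hf d).mp (hp ▸ (frame_universal pair_frame d).mpr hd)
    simpa using this
  exact gen0_ne_central ((hu (gen 0) (by simp)).trans (hu central (by simp)).symm)

/-- the centralizer of the two transpositions -/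
noncomputable def pairK : Subgroup Fi23 := Subgroup.centralizer ({central, gen 0} : Set Fi23)

theorem mem_pairK {x : Fi23} : x ∈ pairK ↔ x * central = central * x ∧ x * gen 0 = gen 0 * x := by
  simp [pairK, Subgroup.mem_centralizer_iff, eq_comm]

theorem pairK_le : pairK ≤ subA := fun x hx => by
  rw [← centralizer_central, Subgroup.mem_centralizer_singleton_iff]
  exact (mem_pairK.mp hx).1

/-- the projection of the centralizer of the central element to Fi22 -/
noncomputable def toFi22 : subA →* Fi22 :=
  coverEquiv.symm.toMonoidHom.comp (QuotientGroup.mk' zKer)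

theorem toFi22_surjective : Function.Surjective toFi22 :=
  coverEquiv.symm.surjective.comp (QuotientGroup.mk'_surjective zKer)

theorem toFi22_gen : toFi22 ⟨gen 0, gen0_mem_subA⟩ = Fi22Pres.gen 0 := by
  refine coverEquiv.symm_apply_eq.mpr ?_
  obtain ⟨m, hm⟩ := coverOf_spec .a
  change _ = coverMap (Fi22Pres.gen 0)
  rw [show Fi22Pres.gen 0 = PresentedGroup.of Fi22.Gen.a from rfl, coverMap,
    PresentedGroup.toGroup.of, hm]
  rfl

theorem toFi22_eq_one {x : subA} : toFi22 x = 1 ↔ (x : Fi23) = 1 ∨ (x : Fi23) = central := by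
  rw [toFi22, MonoidHom.comp_apply]
  change coverEquiv.symm _ = 1 ↔ _
  rw [EmbeddingLike.map_eq_one_iff, QuotientGroup.mk'_apply, QuotientGroup.eq_one_iff, zKer,
    Subgroup.mem_zpowers_iff]
  constructor
  · rintro ⟨k, rfl⟩
    rcases Int.even_or_odd' k with ⟨m, rfl | rfl⟩
    · exact Or.inl (by simp [zpow_mul, zSub_val, pow_two, coverZ_sq])
    · exact Or.inr (by simp [zpow_add, zpow_mul, zSub_val, pow_two, coverZ_sq]; rfl)
  · rintro (h | h)
    · exact ⟨0, Subtype.ext (by simp [h])⟩
    · exact ⟨1, Subtype.ext (by simp [h, zSub_val]; rfl)⟩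

theorem gen_comm_iff {x : subA} :
    toFi22 x ∈ Fi22Pres.subA ↔ (x : Fi23) * gen 0 = gen 0 * x := by
  rw [← Fi22USix.centralizer_central, Subgroup.mem_centralizer_singleton_iff]
  constructor
  · intro h
    set u : subA := x * ⟨gen 0, gen0_mem_subA⟩ * x⁻¹ * (⟨gen 0, gen0_mem_subA⟩ : subA)⁻¹ with hu
    have h1 : toFi22 u = 1 := by
      simp only [hu, map_mul, map_inv, toFi22_gen, h]
      group
    rcases toFi22_eq_one.mp h1 with e | e
    · simp only [hu, Subgroup.coe_mul, Subgroup.coe_inv] at e
      exact mul_inv_eq_iff_eq_mul.mp (mul_inv_eq_one.mp e)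
    · exfalso
      simp only [hu, Subgroup.coe_mul, Subgroup.coe_inv] at e
      refine pair_prod_not_trans ?_
      rw [comm_central _ gen0_mem_subA, ← e, inv_mul_cancel_right]
      exact (show IsConj central _ from
        (show IsConj central (gen 0) from gen0_trans).trans (isConj_iff.mpr ⟨(x : Fi23), rfl⟩))
  · intro h
    rw [← toFi22_gen, ← map_mul, ← map_mul]
    exact congrArg _ (Subtype.ext h)

/-- the restriction to the centralizer of two transpositions -/
noncomputable def pairHom : pairK →* Fi22Pres.subA :=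
  ((toFi22.comp (Subgroup.inclusion pairK_le))).codRestrict _ fun x =>
    gen_comm_iff.mpr (mem_pairK.mp x.2).2

theorem pairHom_surjective : Function.Surjective pairHom := by
  rintro ⟨y, hy⟩
  obtain ⟨x, rfl⟩ := toFi22_surjective y
  have hx : (x : Fi23) ∈ pairK :=
    mem_pairK.mpr ⟨comm_central _ x.2, gen_comm_iff.mp hy⟩
  exact ⟨⟨x, hx⟩, Subtype.ext rfl⟩

theorem central_mem_pairK : central ∈ pairK :=
  mem_pairK.mpr ⟨rfl, (comm_central _ gen0_mem_subA).symm⟩

theorem gen0_mem_pairK : gen 0 ∈ pairK :=
  mem_pairK.mpr ⟨comm_central _ gen0_mem_subA, rfl⟩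

theorem balanced_one {A : Type*} [CommGroup A] (t : ℕ → A) (h : ∀ k < 8, t k * t k = 1) :
    prodW t Fi22USix.balWord = 1 := by
  obtain ⟨hb, hp⟩ := Fi22USix.balShape
  rw [prodW, (hp.map t).prod_eq, List.map_append, List.prod_append]
  have key : ∀ l : List ℕ, (∀ k ∈ l, k < 8) → (l.map t).prod * (l.map t).prod = 1 := by
    intro l
    induction l with
    | nil => simp
    | cons k l ih =>
      intro hl
      rw [List.forall_mem_cons] at hl
      rw [List.map_cons, List.prod_cons, mul_mul_mul_comm, h k hl.1, ih hl.2, one_mul]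
  refine key _ fun k hk => ?_
  obtain ⟨j, hj, hk⟩ := List.mem_flatMap.mp hk
  rw [List.eq_of_mem_replicate hk]
  exact List.mem_range.mp hj

theorem gen0_commutator : (⟨gen 0, gen0_mem_pairK⟩ : pairK) ∈ commutator pairK := by
  classical
  have hc := pair_word_checks
  simp only [Bool.and_eq_true, List.all_eq_true, List.mem_range] at hc
  obtain ⟨⟨hk, hbal⟩, -⟩ := hc
  have hlt : ∀ k < 8, ∀ g ∈ Fi22USix.gword.getD k [], g < certA.K := fun k h g hg => by
    have := (hk k h).1.1 g hg
    rw [Nat.blt_eq] at this
    rw [hK]; omega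
  have l0 : ∀ g ∈ ([0] : List ℕ), g < certA.K := lt_of_blt rfl
  let s : ℕ → Fi23 := fun k => prodW gen (Fi22USix.gword.getD k [])
  have hs : ∀ k < 8, s k ∈ pairK ∧ s k * s k = 1 := by
    intro k h
    have e0 := words_eq (app_lt (hlt k h) (hlt k h)) nil_lt (hk k h).1.2
    have e1 := words_eq (app_lt (hlt k h) l0) (app_lt l0 (hlt k h)) (hk k h).2
    rw [prodW_append, prodW_nil] at e0
    rw [prodW_append, prodW_append] at e1
    refine ⟨mem_pairK.mpr ⟨comm_central _ ?_, by simpa [s, prodW] using e1⟩, e0⟩
    refine Subgroup.list_prod_mem _ fun x hx => ?_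
    obtain ⟨g, hg, rfl⟩ := List.mem_map.mp hx
    exact gen_mem (Nat.blt_eq ▸ (hk k h).1.1 g hg)
  let t : ℕ → pairK := fun k => if h : k < 8 then ⟨s k, (hs k h).1⟩ else 1
  have hval : ∀ w : List ℕ, (∀ k ∈ w, k < 8) →
      ((prodW t w : pairK) : Fi23) = prodW gen (w.flatMap fun k => Fi22USix.gword.getD k []) := by
    intro w
    induction w with
    | nil => intro _; simp
    | cons k w ih =>
      intro hw
      rw [List.forall_mem_cons] at hw
      rw [prodW_cons, Subgroup.coe_mul, ih hw.2, List.flatMap_cons, prodW_append]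
      simp [t, s, dif_pos hw.1]
  have hb8 : ∀ k ∈ Fi22USix.balWord, k < 8 := fun k hk => by
    have := List.all_eq_true.1 Fi22USix.balShape.1 k hk; simpa using this
  have e : prodW t Fi22USix.balWord = ⟨gen 0, gen0_mem_pairK⟩ := by
    refine Subtype.ext ?_
    rw [hval _ hb8]
    refine (words_eq ?_ l0 hbal).trans (by simp [prodW])
    intro g hg
    obtain ⟨k, hk', hg⟩ := List.mem_flatMap.mp hg
    exact hlt k (hb8 k hk') g hg
  rw [← e, ← Abelianization.ker_of, MonoidHom.mem_ker, map_prodW]
  refine balanced_one _ fun k h => ?_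
  rw [← map_mul, show t k * t k = 1 from Subtype.ext (by simp [t, dif_pos h, (hs k h).2]), map_one]

/-- The centralizer of two transpositions: it is perfect, with the four-group as centre and quotient
`PSU₆(2)`. -/
theorem pairK_facts : Group.IsPerfect pairK ∧
    (Subgroup.center pairK).map pairK.subtype = Subgroup.closure {central, gen 0} ∧
    Nonempty (pairK ⧸ Subgroup.center pairK ≃* Cfsg.PSU 6 K4 2) := by
  classical
  obtain ⟨π, hπs, hcen, hk2, -⟩ := Fi22USix.exists_proj
  let ψ : pairK →* Cfsg.PSU 6 K4 2 := π.comp pairHom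
  have hψs : Function.Surjective ψ := hπs.comp pairHom_surjective
  let g0 : pairK := ⟨gen 0, gen0_mem_pairK⟩
  let z0 : pairK := ⟨central, central_mem_pairK⟩
  have hvg : pairHom g0 = ⟨Fi22Pres.gen 0, gen_comm_iff.mpr rfl |> (toFi22_gen ▸ ·)⟩ :=
    Subtype.ext toFi22_gen
  have hg22 : pairHom g0 ∈ π.ker ∧ pairHom g0 ≠ 1 := by
    refine ⟨?_, fun e => ?_⟩
    · rw [← hcen, Subgroup.mem_center_iff]
      intro y
      refine Subtype.ext ?_
      simp only [Subgroup.coe_mul, hvg]
      exact Fi22USix.comm_central y y.2
    · rcases toFi22_eq_one.mp (congrArg Subtype.val e) with h | h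
      · exact absurd h (fun h => by
          have := (transClass_three.1.1 _ gen0_trans)
          rw [show gen 0 = (1 : Fi23) from h, orderOf_one] at this
          norm_num at this)
      · exact gen0_ne_central h
  have hker : ∀ x : pairK, x ∈ ψ.ker → x ∈ Subgroup.closure ({z0, g0} : Set pairK) := by
    intro x hx
    have hz : z0 ∈ Subgroup.closure ({z0, g0} : Set pairK) := Subgroup.subset_closure (by simp)
    have hg : g0 ∈ Subgroup.closure ({z0, g0} : Set pairK) := Subgroup.subset_closure (by simp)
    have hbase : ∀ y : pairK, pairHom y = 1 → y ∈ Subgroup.closure ({z0, g0} : Set pairK) := by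
      intro y hy
      rcases toFi22_eq_one.mp (congrArg Subtype.val hy) with h | h
      · rw [show y = 1 from Subtype.ext h]; exact one_mem _
      · rw [show y = z0 from Subtype.ext h]; exact hz
    obtain ⟨a, b, -, huniv⟩ := Nat.card_eq_two_iff.1 hk2
    have h2 : ∀ u : π.ker, u = a ∨ u = b := fun u => by simpa using (Set.eq_univ_iff_forall.1 huniv) u
    by_cases h1 : pairHom x = 1
    · exact hbase x h1
    · have e : pairHom x = pairHom g0 := by
        rcases h2 ⟨_, hx⟩ with e | e <;> rcases h2 ⟨_, hg22.1⟩ with e' | e' <;> rcases h2 1 with e'' | e'' <;>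
          first
            | exact congrArg Subtype.val (e.trans e'.symm)
            | exact absurd (congrArg Subtype.val (e.trans e''.symm)) h1
            | exact absurd (congrArg Subtype.val (e'.trans e''.symm)) hg22.2
      have := mul_mem (hbase (x * g0⁻¹) (by rw [map_mul, map_inv, e, mul_inv_cancel])) hg
      rwa [inv_mul_cancel_right] at this
  have hle : Subgroup.closure ({z0, g0} : Set pairK) ≤ Subgroup.center pairK := by
    rw [Subgroup.closure_le]
    rintro u (rfl | rfl) <;> refine Subgroup.mem_center_iff.mpr fun y => Subtype.ext ?_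
    · exact (mem_pairK.mp y.2).1
    · exact (mem_pairK.mp y.2).2
  have hcenter : Subgroup.center pairK = ψ.ker := by
    refine le_antisymm (fun x hx => ?_) fun x hx => hle (hker x hx)
    rw [MonoidHom.mem_ker, ← Subgroup.mem_bot, ← Fi22USix.psu_center]
    refine Subgroup.mem_center_iff.2 fun p => ?_
    obtain ⟨q, rfl⟩ := hψs p
    rw [← map_mul, ← map_mul, Subgroup.mem_center_iff.1 hx q]
  have hclo : Subgroup.center pairK = Subgroup.closure ({z0, g0} : Set pairK) :=
    le_antisymm (fun x hx => hker x (hcenter ▸ hx)) hle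
  refine ⟨⟨?_⟩, ?_, ⟨(QuotientGroup.quotientMulEquivOfEq hcenter).trans
    (QuotientGroup.quotientKerEquivOfSurjective ψ hψs)⟩⟩
  · haveI : IsSimpleGroup (Cfsg.PSU 6 K4 2) := Fi22USix.psu_simple
    have hP : commutator (Cfsg.PSU 6 K4 2) = ⊤ := by
      refine (Subgroup.Normal.eq_bot_or_eq_top (H := commutator (Cfsg.PSU 6 K4 2))
        inferInstance).resolve_left fun h => ?_
      have ht : Subgroup.center (Cfsg.PSU 6 K4 2) = ⊤ := (commutator_eq_bot_iff_center_eq_top _).mp h
      rw [Fi22USix.psu_center] at ht
      exact bot_ne_top ht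
    obtain ⟨τ, hτ⟩ := frame_conj pair_frame (l' := [gen 0, central]) (by
      have hf := pair_frame
      refine ⟨by simp [gen0_ne_central], by simp, by simp, ?_, ?_⟩
      · intro a ha; exact hf.mem a (by simp at ha ⊢; tauto)
      · intro a ha b hb; exact hf.comm a (by simp at ha ⊢; tauto) b (by simp at hb ⊢; tauto)) rfl
    simp only [List.map_cons, List.map_nil, List.cons.injEq, MulAut.conj_apply, and_true] at hτ
    obtain ⟨h1, h2⟩ := hτ
    have hconj : pairK.map (MulAut.conj τ).toMonoidHom = pairK := by
      have i1 : τ⁻¹ * gen 0 * τ = central := by rw [← h1]; group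
      have i2 : τ⁻¹ * central * τ = gen 0 := by rw [← h2]; group
      ext x
      rw [Subgroup.mem_map_equiv, MulAut.conj_symm_apply, mem_pairK, mem_pairK]
      constructor
      · rintro ⟨a, b⟩
        have a' := Commute.map (show Commute _ central from a) (MulAut.conj τ)
        have b' := Commute.map (show Commute _ (gen 0) from b) (MulAut.conj τ)
        simp only [MulAut.conj_apply, h1, h2] at a' b'
        exact ⟨by simpa [mul_assoc] using b'.eq, by simpa [mul_assoc] using a'.eq⟩
      · rintro ⟨a, b⟩
        have a' := Commute.map (show Commute _ central from a) (MulAut.conj τ⁻¹)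
        have b' := Commute.map (show Commute _ (gen 0) from b) (MulAut.conj τ⁻¹)
        simp only [MulAut.conj_apply, inv_inv, i1, i2] at a' b'
        exact ⟨b'.eq, a'.eq⟩
    let T : pairK ≃* pairK :=
      (pairK.equivMapOfInjective _ (MulAut.conj τ).injective).trans (MulEquiv.subgroupCongr hconj)
    have hT : T g0 = z0 := Subtype.ext h2
    have hg : g0 ∈ commutator pairK := gen0_commutator
    have hz : z0 ∈ commutator pairK := by
      have h := Subgroup.mem_map_of_mem T.toMonoidHom hg
      rw [commutator_def, Subgroup.map_commutator,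
        Subgroup.map_top_of_surjective _ T.surjective] at h
      rw [commutator_def]
      simpa [hT] using h
    rw [eq_top_iff]
    intro x _
    have hx : ψ x ∈ (commutator pairK).map ψ := by
      rw [commutator_def, Subgroup.map_commutator, Subgroup.map_top_of_surjective _ hψs,
        ← commutator_def, hP]
      trivial
    obtain ⟨c, hc, e⟩ := hx
    have hk : c⁻¹ * x ∈ Subgroup.closure ({z0, g0} : Set pairK) :=
      hker _ (by rw [MonoidHom.mem_ker, map_mul, map_inv, e, inv_mul_cancel])
    have := mul_mem hc ((Subgroup.closure_le _).mpr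
      (Set.insert_subset_iff.mpr ⟨hz, Set.singleton_subset_iff.mpr hg⟩) hk)
    rwa [mul_inv_cancel_left] at this
  · rw [hclo, MonoidHom.map_closure, Set.image_pair]
    rfl

end CfsgLib.Fi23Inv
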