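import Cfsg.Agent.Lib.Fi23Inv.Defs

/-!
Kernel checks on the frame of involutions of the presented group Fi23.
-/

set_option autoImplicit false
set_option linter.style.longLine false
set_option Elab.async false

namespace CfsgLib.Fi23Inv

open CfsgLib.CosetEnum CfsgLib.Fi23Pres

theorem frame_ok : frameOK = true := by decide +kernel

theorem sums_ok : (strict (maskOf smallSums) fun M => Fi23Syl.allBelow 2048 fun v => M.testBit v) = true := by decide +kernel

theorem residue_ok : Fi23Syl.allBelow 128 residueOK = true := by decide +kernel

theorem rows_ok : Fi23Syl.allBelow 35 rowsOK = true := by decide +kernel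

theorem sol_ok0 : ((List.range 5).all fun i => solOK (0 + i)) = true := by decide +kernel

theorem sol_ok1 : ((List.range 5).all fun i => solOK (5 + i)) = true := by decide +kernel

theorem sol_ok2 : ((List.range 5).all fun i => solOK (10 + i)) = true := by decide +kernel

theorem sol_ok3 : ((List.range 5).all fun i => solOK (15 + i)) = true := by decide +kernel

theorem sol_ok4 : ((List.range 5).all fun i => solOK (20 + i)) = true := by decide +kernel

theorem sol_ok5 : ((List.range 5).all fun i => solOK (25 + i)) = true := by decide +kernel

theorem sol_ok6 : ((List.range 5).all fun i => solOK (30 + i)) = true := by decide +kernel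

end CfsgLib.Fi23Inv
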