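import Cfsg.Agent.Lib.Fi23Inv.Defs

/-!
Kernel checks of the representatives of involutions of the presented group Fi23.
-/

set_option autoImplicit false
set_option linter.style.longLine false
set_option Elab.async false

namespace CfsgLib.Fi23Inv

open CfsgLib.CosetEnum CfsgLib.Fi23Pres

theorem wit_ok0 : ((List.range 5).all fun i => witOK (0 + i)) = true := by decide +kernel

theorem wit_ok1 : ((List.range 5).all fun i => witOK (5 + i)) = true := by decide +kernel

theorem wit_ok2 : ((List.range 5).all fun i => witOK (10 + i)) = true := by decide +kernel

theorem wit_ok3 : ((List.range 5).all fun i => witOK (15 + i)) = true := by decide +kernel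

theorem wit_ok4 : ((List.range 5).all fun i => witOK (20 + i)) = true := by decide +kernel

theorem wit_ok5 : ((List.range 5).all fun i => witOK (25 + i)) = true := by decide +kernel

theorem wit_ok6 : ((List.range 5).all fun i => witOK (30 + i)) = true := by decide +kernel

end CfsgLib.Fi23Inv
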