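import Cfsg.Agent.Lib.Fi23Inv.Triples
import Cfsg.Agent.Lib.Fi23Inv.CheckFrame
import Cfsg.Agent.Lib.Fi23Inv.CheckWit
import Cfsg.Agent.Lib.Fi23Syl.Main

/-!
Every involution of the presented group Fi23 is a product of at most three commuting transpositions.
-/

set_option autoImplicit false
set_option linter.style.haveILetI false
set_option maxRecDepth 100000

namespace CfsgLib.Fi23Inv

open CfsgLib.CosetEnum CfsgLib.Fi23Pres CfsgLib Cfsg.Spor
open CfsgLib.Fi23Syl (aG rG aW rW)

/-- `x` is the product of a frame -/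
def IsFrameProd (x : Fi23) : Prop := ∃ l, Frame transClass l ∧ l.prod = x

theorem IsFrameProd.conj {x : Fi23} (g : Fi23) (h : IsFrameProd x) : IsFrameProd (g * x * g⁻¹) := by
  obtain ⟨l, hl, rfl⟩ := h
  refine ⟨l.map (MulAut.conj g), ?_, ?_⟩
  · have := hl.map (MulAut.conj g)
    rwa [Fi23Cent.conj_class] at this
  · rw [← map_list_prod]; rfl

theorem prodW_dWord {x : ℕ} (hx : x < certA.N) :
    prodW gen (TransCent.dWord certA zWord x) = tr x :=
  ((Fi23Cent.env.dWord_spec ⟨x, hx⟩).2).symm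

theorem prodW_prodWord : ∀ {l : List ℕ}, (∀ x ∈ l, x < certA.N) →
    prodW gen (prodWord l) = (l.map tr).prod
  | [], _ => by rw [prodWord, prodW_nil]; rfl
  | x :: l, h => by
    rw [prodWord, prodW_append, prodW_dWord (h x (by simp)), List.map_cons, List.prod_cons,
      prodW_prodWord fun y hy => h y (List.mem_cons_of_mem _ hy)]

theorem maskOf_bit (l : List ℕ) (v : ℕ) (h : (maskOf l).testBit v = true) : v ∈ l := by
  have key : ∀ (l : List ℕ) (m : ℕ),
      (l.foldl (fun m v => m ||| Nat.shiftLeft 1 v) m).testBit v = true → m.testBit v = true ∨ v ∈ l := by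
    intro l
    induction l with
    | nil => exact fun m h => Or.inl h
    | cons a l ih =>
      intro m h
      rcases ih _ h with h' | h'
      · rw [Nat.testBit_or, Bool.or_eq_true] at h'
        rcases h' with h' | h'
        · exact Or.inl h'
        · rw [show Nat.shiftLeft 1 a = 2 ^ a from Nat.one_shiftLeft a, Nat.testBit_two_pow,
            decide_eq_true_eq] at h'
          exact Or.inr (List.mem_cons.mpr (Or.inl h'.symm))
      · exact Or.inr (List.mem_cons_of_mem _ h')
  rcases key l 0 h with h' | h'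
  · simp at h'
  · exact h'

theorem frame_vec {p : ℕ × ℕ} (hp : p ∈ frameTrans) :
    p.1 < 2048 ∧ p.2 < certA.N ∧ aG p.1 = tr p.2 := by
  have h := frame_ok
  simp only [frameOK, List.all_eq_true, Bool.and_eq_true, Nat.blt_eq] at h
  obtain ⟨⟨h1, h2⟩, h3⟩ := h p hp
  refine ⟨h1, h2, ?_⟩
  have := Fi23Syl.same_eq h3
  rwa [Fi23Syl.prodW_aW, prodW_dWord h2] at this

theorem base_prod {v : ℕ} (hv : v < 2048) (h0 : v ≠ 0) : IsFrameProd (aG v) := by
  have hs := sums_ok
  rw [strict_eq] at hs
  have hm := maskOf_bit _ _ (Fi23Syl.allBelow_spec hs v hv)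
  set ts := frameTrans.map Prod.fst with hts
  have htr : ∀ i < ts.length, aG (nth ts i 0) ∈ transClass ∧ nth ts i 0 < 2048 := by
    intro i hi
    obtain ⟨p, hp, e⟩ := List.mem_map.mp (hts ▸ TransCent.nth_mem hi : nth ts i 0 ∈ frameTrans.map Prod.fst)
    obtain ⟨h1, h2, h3⟩ := frame_vec hp
    rw [← e]
    exact ⟨h3 ▸ tr_mem ⟨p.2, h2⟩, h1⟩
  have hnd : ts.Nodup := by decide +kernel
  have mk : ∀ is : List ℕ, is.Nodup → (∀ i ∈ is, i < ts.length) → 1 ≤ is.length → is.length ≤ 3 →
      IsFrameProd ((is.map fun i => aG (nth ts i 0)).prod) := by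
    intro is hn hlt h1 h3
    refine ⟨is.map fun i => aG (nth ts i 0), ⟨?_, by simpa using h1, by simpa using h3, ?_, ?_⟩, rfl⟩
    · refine (List.nodup_map_iff_inj_on hn).mpr fun i hi j hj e => ?_
      have e' := Fi23Syl.aG_inj (htr i (hlt i hi)).2 (htr j (hlt j hj)).2 e
      rw [nth_eq, nth_eq, List.getD_eq_getElem _ _ (hlt i hi), List.getD_eq_getElem _ _ (hlt j hj)] at e'
      exact hnd.getElem_inj_iff.mp e'
    · intro a ha
      obtain ⟨i, hi, rfl⟩ := List.mem_map.mp ha
      exact (htr i (hlt i hi)).1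
    · intro a ha b hb
      obtain ⟨i, -, rfl⟩ := List.mem_map.mp ha
      obtain ⟨j, -, rfl⟩ := List.mem_map.mp hb
      exact Fi23Syl.aG_comm _ _
  simp only [smallSums, ← hts, List.mem_cons, List.mem_append, List.mem_flatMap, List.mem_range,
    List.mem_map] at hm
  rcases hm with (rfl | hm) | ⟨i, hi, j, hj, rfl | ⟨k, hk, rfl⟩⟩
  · exact absurd rfl h0
  · obtain ⟨i, hi, rfl⟩ := List.getElem_of_mem hm
    have := mk [i] (by simp) (by simp [hi]) (by simp) (by simp)
    simpa [nth_eq, List.getElem?_eq_getElem hi] using this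
  · have := mk [i, j] (by simp; omega) (by simp; omega) (by simp) (by simp)
    simpa [Fi23Syl.aG_xor] using this
  · have := mk [i, j, k] (by simp; omega) (by simp; omega) (by simp) (by simp)
    simpa [Fi23Syl.aG_xor, mul_assoc] using this

theorem disp_rows {i : ℕ} (hrow : ∀ j < 11, Fi23Syl.disp (nth residues i 128) (2 ^ j) =
    nth (nthWord resRows i) j 0) (v : ℕ) (hv : v < 2048) :
    Fi23Syl.disp (nth residues i 128) v = rowDisp i v := by
  set e := nth residues i 128
  have key : ∀ n ≤ 11, Fi23Syl.disp e (v % 2 ^ n) = Fi23Syl.sUp (fun j => nth (nthWord resRows i) j 0) n v := by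
    intro n hn
    induction n with
    | zero =>
      rw [pow_zero, Nat.mod_one, Fi23Syl.sUp]
      have := Fi23Syl.disp_xor e 0 0
      simp only [Nat.xor_self] at this
      exact this
    | succ n ih =>
      have hsplit : v % 2 ^ (n + 1) = (v % 2 ^ n) ^^^ (bif v.testBit n then 2 ^ n else 0) := by
        refine Nat.eq_of_testBit_eq fun j => ?_
        rw [Nat.testBit_xor, Nat.testBit_mod_two_pow, Nat.testBit_mod_two_pow]
        rcases Nat.lt_trichotomy j n with h | rfl | h
        · cases v.testBit n <;> simp [h, Nat.lt_succ_of_lt h, Nat.testBit_two_pow_of_ne (Nat.ne_of_gt h)]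
        · cases hb : v.testBit j <;> simp [Nat.testBit_two_pow_self]
        · cases v.testBit n <;>
            simp [show ¬ j < n + 1 by omega, show ¬ j < n by omega, Nat.testBit_two_pow_of_ne (Nat.ne_of_lt h)]
      rw [hsplit, Fi23Syl.disp_xor, Fi23Syl.sUp, ih (by omega)]
      cases hb : v.testBit n
      · have := Fi23Syl.disp_xor e 0 0
        simp only [Nat.xor_self] at this
        simp [this]
      · simp [hrow n (by omega)]
  have h := key 11 le_rfl
  rwa [Nat.mod_eq_of_lt (show v < 2 ^ 11 by omega)] at h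

theorem five_blocks {f : ℕ → Bool} (h : ∀ k < 7, ((List.range 5).all fun i => f (5 * k + i)) = true) :
    ∀ i < 35, f i = true := by
  intro i hi
  have := List.all_eq_true.mp (h (i / 5) (by omega)) (i % 5) (List.mem_range.mpr (Nat.mod_lt _ (by norm_num)))
  rwa [Nat.div_add_mod] at this

theorem sol_ok {i : ℕ} (hi : i < 35) : solOK i = true := five_blocks (f := solOK) (fun k hk => by
  match k, hk with
  | 0, _ => exact sol_ok0
  | 1, _ => exact sol_ok1
  | 2, _ => exact sol_ok2
  | 3, _ => exact sol_ok3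
  | 4, _ => exact sol_ok4
  | 5, _ => exact sol_ok5
  | 6, _ => exact sol_ok6
  | n + 7, h => omega) i hi

theorem wit_ok {i : ℕ} (hi : i < 35) : witOK i = true := five_blocks (f := witOK) (fun k hk => by
  match k, hk with
  | 0, _ => exact wit_ok0
  | 1, _ => exact wit_ok1
  | 2, _ => exact wit_ok2
  | 3, _ => exact wit_ok3
  | 4, _ => exact wit_ok4
  | 5, _ => exact wit_ok5
  | 6, _ => exact wit_ok6
  | n + 7, h => omega) i hi

theorem residue_prod {v e : ℕ} (hv : v < 2048) (he : e < 128) (he0 : e ≠ 0)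
    (hx : (aG v * rG e) * (aG v * rG e) = 1) : IsFrameProd (aG v * rG e) := by
  have hres := Fi23Syl.allBelow_spec residue_ok e he
  simp only [residueOK, Bool.or_eq_true, List.any_eq_true, List.mem_range, Bool.not_eq_true'] at hres
  rcases hres with (h | ⟨f, hf, hfe⟩) | ⟨j, hj, h⟩
  · exact absurd (Nat.eq_of_beq_eq_true h) he0
  · obtain ⟨i, hi, rfl⟩ := List.getElem_of_mem hf
    have hlen : residues.length = 35 := by decide +kernel
    have hi' : i < 35 := hlen ▸ hi
    have hei : nth residues i 128 = e := by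
      rw [nth_eq, List.getD_eq_getElem _ _ hi]; exact Nat.eq_of_beq_eq_true hfe
    have hrows := Fi23Syl.allBelow_spec rows_ok i hi'
    simp only [rowsOK, Bool.and_eq_true, List.all_eq_true, List.mem_range, Nat.blt_eq] at hrows
    obtain ⟨⟨⟨⟨-, hrow⟩, hfour⟩, hs⟩, hsq⟩ := hrows
    replace hsq := Fi23Syl.same_eq hsq
    rw [prodW_append, Fi23Syl.prodW_aW, hei] at hsq
    change prodW gen (rW 7 e) * prodW gen (rW 7 e) = _ at hsq
    rw [Fi23Syl.prodW_rW] at hsq
    change rG e * rG e = _ at hsq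
    have hdl : ∀ u < 2048, Fi23Syl.disp e u < 2048 := fun u hu =>
      Nat.xor_lt_two_pow (n := 11) (Fi23Syl.act_lt e hu) hu
    have hd : Fi23Syl.disp e v = nth resSquare i 0 := by
      have hls : resSquare.length = 35 := by decide +kernel
      have h2 : nth resSquare i 0 < 2048 := by
        rw [nth_eq, List.getD_eq_getElem _ _ (hls ▸ hi')]
        rw [nth_eq, List.getD_eq_getElem _ _ (hls ▸ hi')] at hs
        exact hs
      have h1 : aG (Fi23Syl.disp e v ^^^ nth resSquare i 0) = 1 := by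
        rw [← hx, Fi23Syl.aG_xor, ← hsq, Fi23Syl.disp, Fi23Syl.aG_xor, Fi23Syl.aG_comm, ← Fi23Syl.rG_conj]
        group
      have := Fi23Syl.aG_eq_one (Nat.xor_lt_two_pow (n := 11) (hdl v hv) h2) h1
      exact Nat.eq_of_testBit_eq fun j => by
        have := congrArg (fun z => z.testBit j) this
        simpa [Nat.testBit_xor] using this
    have hsol := sol_ok hi'
    unfold solOK at hsol
    simp only [strict_eq] at hsol
    have h2 := Fi23Syl.allBelow_spec hsol v hv
    have hrow' : ∀ j < 11, Fi23Syl.disp (nth residues i 128) (2 ^ j) = nth (nthWord resRows i) j 0 :=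
      fun j hj => Nat.eq_of_beq_eq_true (hrow j hj)
    rw [← disp_rows hrow' v hv, hei, hd, Nat.beq_refl, Bool.not_true, Bool.false_or] at h2
    obtain ⟨r, hr, hm⟩ := List.mem_flatMap.mp (maskOf_bit _ _ h2)
    obtain ⟨c, -, hvc⟩ := List.mem_map.mp hm
    rw [List.mem_range] at hr
    set u := fourVec i c
    have hu : u < 2048 := Fi23Syl.sUp_lt (m := 11) (fun k hk => hfour k hk) c
    rw [← disp_rows hrow' u hu, hei] at hvc
    have hw := wit_ok hi'
    simp only [witOK, List.all_eq_true, List.mem_range, Bool.and_eq_true, Nat.blt_eq] at hw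
    obtain ⟨⟨⟨⟨hl1, hl3⟩, hgood⟩, hrlt⟩, hsame⟩ := hw r hr
    set W := (resWit.getD i []).getD r []
    set v₀ := nth (nthWord resReps i) r 0
    have hW := (goodList_spec hgood).1
    replace hsame := Fi23Syl.same_eq hsame
    rw [prodW_append, Fi23Syl.prodW_aW, Fi23Syl.prodW_rW, hei, prodW_prodWord hW] at hsame
    change aG v₀ * rG e = _ at hsame
    have h0 : IsFrameProd (aG v₀ * rG e) :=
      ⟨_, frame_of_good hgood hl1 (by omega), hsame.symm⟩
    have := h0.conj (aG u)
    have econj : aG u * (aG v₀ * rG e) * (aG u)⁻¹ = aG v * rG e := by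
      rw [← hvc, Fi23Syl.aG_xor, Fi23Syl.disp, Fi23Syl.aG_xor, Fi23Syl.aG_inv, ← Fi23Syl.rG_conj]
      calc aG u * (aG v₀ * rG e) * aG u = (aG u * aG v₀) * (rG e * aG u * (rG e)⁻¹) * rG e := by group
        _ = (aG v₀ * aG u) * (rG e * aG u * (rG e)⁻¹) * rG e := by rw [Fi23Syl.aG_comm]
        _ = aG v₀ * (aG u * (rG e * aG u * (rG e)⁻¹)) * rG e := by group
        _ = aG v₀ * ((rG e * aG u * (rG e)⁻¹) * aG u) * rG e := by
          rw [Fi23Syl.rG_conj, Fi23Syl.aG_comm]
    rwa [econj] at this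
  · exfalso
    refine Nat.ne_of_beq_eq_false h ?_
    have hj' : 2 ^ j < 2048 := show 2 ^ j < 2 ^ 11 from Nat.pow_lt_pow_right (by norm_num) hj
    refine Fi23Syl.aG_inj (Fi23Syl.act_lt e (Fi23Syl.act_lt e hj')) hj' ?_
    rw [← Fi23Syl.elt_conj v e (Fi23Syl.act e (2 ^ j)), ← Fi23Syl.elt_conj v e (2 ^ j)]
    generalize aG v * rG e = x at hx
    rw [show x * (x * aG (2 ^ j) * x⁻¹) * x⁻¹ = (x * x) * aG (2 ^ j) * (x * x)⁻¹ by group, hx]
    group

/-- Every involution is the product of a frame. -/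
theorem involution_frame {x : Fi23} (hx : orderOf x = 2) : IsFrameProd x := by
  haveI : Fact (Nat.Prime 2) := ⟨Nat.prime_two⟩
  have hp : IsPGroup 2 (Subgroup.zpowers x) :=
    IsPGroup.of_card (n := 1) (by rw [Nat.card_zpowers, hx, pow_one])
  obtain ⟨P, hP⟩ := hp.exists_le_sylow
  obtain ⟨g, hg⟩ := MulAction.exists_smul_eq Fi23 Fi23Syl.sylowTwo P
  have hxP : x ∈ (P : Subgroup Fi23) := hP (Subgroup.mem_zpowers x)
  rw [← hg] at hxP
  obtain ⟨y, hy, e⟩ : x ∈ Fi23Syl.sylowSub.map (MulAut.conj g).toMonoidHom := hxP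
  obtain ⟨v, hv, r, hr, rfl⟩ := Fi23Syl.mem_sylowSub.mp hy
  have hoy : orderOf (aG v * rG r) = 2 := by
    rw [← orderOf_injective (MulAut.conj g).toMonoidHom (MulAut.conj g).injective, e, hx]
  have hsq : (aG v * rG r) * (aG v * rG r) = 1 := by
    rw [← pow_two, ← hoy]; exact pow_orderOf_eq_one _
  rw [← e]
  refine IsFrameProd.conj g ?_
  by_cases hr0 : r = 0
  · subst hr0
    rw [Fi23Syl.rG_zero, mul_one] at hoy ⊢
    refine base_prod hv fun h0 => ?_
    rw [h0, Fi23Syl.aG_zero, orderOf_one] at hoy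
    norm_num at hoy
  · exact residue_prod hv hr hr0 hsq

end CfsgLib.Fi23Inv
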