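import Cfsg.Agent.Lib.Fi23Inv.Defs

/-!
Kernel checks on commuting triples of transpositions of the presented group Fi23.
-/

set_option autoImplicit false
set_option linter.style.longLine false
set_option Elab.async false

namespace CfsgLib.Fi23Inv

open CfsgLib.CosetEnum CfsgLib.Fi23Pres

/-- the orbit of the third coset -/
noncomputable def tripleMask : ℕ := (reach certA pairGens pairTree (2 ^ third)).getD 0

theorem triple_reach : (reach certA pairGens pairTree (2 ^ third)).isSome = true := by decide +kernel

theorem triple_gens : (pairGens.all fun w => (w.all fun g => Nat.blt g 10) &&
    Nat.beq (certA.run 0 (certA.revInv w)) 0 && Nat.beq (certA.run 53 (certA.revInv w)) 53) = true := by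
  decide +kernel

theorem third_ok : (Nat.blt third certA.N && goodList [0, 53, third]) = true := by decide +kernel

theorem triple_scan0 : (strict tripleMask fun M => Cert.blockPts certA.N (tripleAt M) 13 0) = true := by decide +kernel

theorem triple_scan1 : (strict tripleMask fun M => Cert.blockPts certA.N (tripleAt M) 13 1) = true := by decide +kernel

theorem triple_scan2 : (strict tripleMask fun M => Cert.blockPts certA.N (tripleAt M) 13 2) = true := by decide +kernel

theorem triple_scan3 : (strict tripleMask fun M => Cert.blockPts certA.N (tripleAt M) 13 3) = true := by decide +kernel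

theorem universal1_scan0 : Cert.blockPts certA.N (universalAt [0] [11589] sepPts1) 13 0 = true := by decide +kernel

theorem universal1_scan1 : Cert.blockPts certA.N (universalAt [0] [11589] sepPts1) 13 1 = true := by decide +kernel

theorem universal1_scan2 : Cert.blockPts certA.N (universalAt [0] [11589] sepPts1) 13 2 = true := by decide +kernel

theorem universal1_scan3 : Cert.blockPts certA.N (universalAt [0] [11589] sepPts1) 13 3 = true := by decide +kernel

theorem universal1_sep : (([11589] ++ sepPts1).all fun y => Nat.blt y certA.N && Nat.beq (certA.run y (certA.revInv [0])) y) = true := by decide +kernel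

theorem standard1_ok : goodList [11589] = true := by decide +kernel

theorem universal2_scan0 : Cert.blockPts certA.N (universalAt [0, 2] [11589, 8005] sepPts2) 13 0 = true := by decide +kernel

theorem universal2_scan1 : Cert.blockPts certA.N (universalAt [0, 2] [11589, 8005] sepPts2) 13 1 = true := by decide +kernel

theorem universal2_scan2 : Cert.blockPts certA.N (universalAt [0, 2] [11589, 8005] sepPts2) 13 2 = true := by decide +kernel

theorem universal2_scan3 : Cert.blockPts certA.N (universalAt [0, 2] [11589, 8005] sepPts2) 13 3 = true := by decide +kernel

theorem universal2_sep : (([11589, 8005] ++ sepPts2).all fun y => Nat.blt y certA.N && Nat.beq (certA.run y (certA.revInv [0, 2])) y) = true := by decide +kernel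

theorem standard2_ok : goodList [11589, 8005] = true := by decide +kernel

theorem universal3_scan0 : Cert.blockPts certA.N (universalAt [0, 2, 4] [11589, 8005, 8002] sepPts3) 13 0 = true := by decide +kernel

theorem universal3_scan1 : Cert.blockPts certA.N (universalAt [0, 2, 4] [11589, 8005, 8002] sepPts3) 13 1 = true := by decide +kernel

theorem universal3_scan2 : Cert.blockPts certA.N (universalAt [0, 2, 4] [11589, 8005, 8002] sepPts3) 13 2 = true := by decide +kernel

theorem universal3_scan3 : Cert.blockPts certA.N (universalAt [0, 2, 4] [11589, 8005, 8002] sepPts3) 13 3 = true := by decide +kernel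

theorem universal3_sep : (([11589, 8005, 8002] ++ sepPts3).all fun y => Nat.blt y certA.N && Nat.beq (certA.run y (certA.revInv [0, 2, 4])) y) = true := by decide +kernel

theorem standard3_ok : goodList [11589, 8005, 8002] = true := by decide +kernel

end CfsgLib.Fi23Inv
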