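import Cfsg.Agent.Lib.Fi23Inv.Transport
import Cfsg.Prelude.Def_SporadicB

/-!
The transpositions are the only class of three-transpositions of Fi23.
-/

set_option autoImplicit false
set_option Elab.async false
set_option maxRecDepth 8000

namespace CfsgLib.Fi23Inv

open CfsgLib.CosetEnum CfsgLib.Fi23Pres Cfsg.Spor

/-- the word of `j` followed by a conjugate of `j`, to the power `n` -/
def sepWord (j c : List ℕ) (n : ℕ) : List ℕ := powWord (j ++ (c ++ j ++ c.reverse)) n

/-- one of the first points is moved -/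
noncomputable def movesPoint (w : List ℕ) : Bool :=
  (w.all fun g => Nat.blt g certA.K) && (List.range 40).any fun x =>
    Nat.blt x certA.N && !(Nat.beq (certA.run x (certA.revInv w)) x)

theorem pair_moves : movesPoint (sepWord [0, 2] [1, 3] 2) = true ∧
    movesPoint (sepWord [0, 2] [1, 3] 3) = true := by decide +kernel

theorem triple_moves : movesPoint (sepWord [0, 2, 4] [1, 3, 5] 2) = true ∧
    movesPoint (sepWord [0, 2, 4] [1, 3, 5] 3) = true := by decide +kernel

theorem ne_one_of_moves {w : List ℕ} (h : movesPoint w = true) : prodW gen w ≠ 1 := by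
  simp only [movesPoint, Bool.and_eq_true, List.all_eq_true, List.any_eq_true, Nat.blt_eq,
    Bool.not_eq_true'] at h
  obtain ⟨hw, x, -, hx, hne⟩ := h
  intro e
  have := setupA.rho_prodW hw ⟨x, hx⟩
  rw [e, map_one, Equiv.Perm.one_apply] at this
  exact Nat.ne_of_beq_eq_false hne this.symm

theorem prodW_reverse_gen (c : List ℕ) : prodW gen c.reverse = (prodW gen c)⁻¹ := by
  induction c with
  | nil => simp
  | cons a c ih =>
    rw [List.reverse_cons, prodW_append, ih, prodW_cons, prodW_cons, prodW_nil, mul_one, mul_inv_rev,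
      inv_eq_of_mul_eq_one_right (gen_sq a)]

theorem sep_gen {j c : List ℕ} (h2 : movesPoint (sepWord j c 2) = true)
    (h3 : movesPoint (sepWord j c 3) = true) :
    ∃ g : Fi23, (prodW gen j * (g * prodW gen j * g⁻¹)) ^ 2 ≠ 1 ∧
      (prodW gen j * (g * prodW gen j * g⁻¹)) ^ 3 ≠ 1 := by
  have key : ∀ n, prodW gen (sepWord j c n) =
      (prodW gen j * (prodW gen c * prodW gen j * (prodW gen c)⁻¹)) ^ n := fun n => by
    rw [sepWord, prodW_powWord]
    simp only [prodW_append, prodW_reverse_gen]
  exact ⟨prodW gen c, fun e => ne_one_of_moves h2 ((key 2).trans e),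
    fun e => ne_one_of_moves h3 ((key 3).trans e)⟩

variable {G : Type*} [Group G] {D : Set G}

/-- A class of three-transpositions in a copy of Fi23 is the class of transpositions. -/
theorem class_unique (Φ : Fi23 ≃* G) (hΦ : Φ '' transClass = D) (hclass : ∀ d ∈ D, D = conjugatesOf d)
    (D' : Set G) (h : Cfsg.IsThreeTranspositionClass D') : D' = D := by
  obtain ⟨⟨hinv, hthree⟩, ⟨d', hd', hcl⟩, -⟩ := h
  obtain ⟨l, hl, hprod⟩ := type_involution Φ hΦ (hinv d' hd')
  have s1 : tr 11589 = gen 0 := tr_letter (i := 0) (by norm_num)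
  have s2 : tr 8005 = gen 2 := tr_letter (i := 2) (by norm_num)
  have s3 : tr 8002 = gen 4 := tr_letter (i := 4) (by norm_num)
  have bad : ∀ j : List ℕ, (∃ g : Fi23, (prodW gen j * (g * prodW gen j * g⁻¹)) ^ 2 ≠ 1 ∧
      (prodW gen j * (g * prodW gen j * g⁻¹)) ^ 3 ≠ 1) → IsConj d' (Φ (prodW gen j)) → False := by
    rintro j ⟨g, g2, g3⟩ hc
    have m1 : Φ (prodW gen j) ∈ D' := by rw [hcl]; exact hc
    have m2 : Φ (g * prodW gen j * g⁻¹) ∈ D' := by
      rw [hcl]
      exact hc.trans (isConj_iff.mpr ⟨Φ g, by rw [map_mul, map_mul, map_inv]⟩)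
    rcases hthree _ m1 _ m2 with h | h <;> rw [← map_mul, ← map_pow, MulEquiv.map_eq_one_iff] at h
    · exact g2 h
    · exact g3 h
  have conj_to : ∀ l₀ : List Fi23, Frame transClass l₀ → l₀.length = l.length →
      IsConj d' (Φ l₀.prod) := by
    intro l₀ h₀ hlen
    obtain ⟨g, hg⟩ := type_frame_conj Φ hΦ hl (hΦ ▸ h₀.map Φ) (by simpa using hlen.symm)
    refine isConj_iff.mpr ⟨g, ?_⟩
    rw [map_list_prod, ← hg, ← map_list_prod, ← hprod]
    rfl
  rcases (show l.length = 1 ∨ l.length = 2 ∨ l.length = 3 by have := hl.pos; have := hl.le; omega) with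
    hlen | hlen | hlen
  · obtain ⟨a, rfl⟩ := List.length_eq_one_iff.mp hlen
    rw [List.prod_singleton] at hprod
    subst hprod
    rw [hcl, ← hclass a (hl.mem a List.mem_cons_self)]
  · refine (bad [0, 2] (sep_gen pair_moves.1 pair_moves.2) ?_).elim
    have h₀ : Frame transClass ([11589, 8005].map tr) :=
      frame_of_good standard2_ok (by simp) (by simp)
    rw [show prodW gen [0, 2] = ([11589, 8005].map tr).prod by simp [s1, s2]]
    exact conj_to _ h₀ (by simp [hlen])
  · refine (bad [0, 2, 4] (sep_gen triple_moves.1 triple_moves.2) ?_).elim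
    have h₀ : Frame transClass ([11589, 8005, 8002].map tr) :=
      frame_of_good standard3_ok (by simp) (by simp)
    rw [show prodW gen [0, 2, 4] = ([11589, 8005, 8002].map tr).prod by simp [s1, s2, s3]]
    exact conj_to _ h₀ (by simp [hlen])

end CfsgLib.Fi23Inv
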