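import Cfsg.Agent.Lib.Fi23Syl.CheckWords
import Cfsg.Agent.Lib.Fi23Pres.OutBase
import Cfsg.Agent.Lib.Fi23Inv.Data
import Cfsg.Agent.Lib.TransCent.Defs

/-!
Checks for the involutions of the presented group Fi23.
-/

set_option autoImplicit false

namespace CfsgLib.Fi23Inv

open CfsgLib.CosetEnum CfsgLib.Fi23Pres

/-- the word of a product of transpositions -/
noncomputable def prodWord : List ℕ → List ℕ
  | [] => []
  | x :: l => TransCent.dWord certA zWord x ++ prodWord l

/-- distinct commuting cosets -/
noncomputable def goodList : List ℕ → Bool
  | [] => true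
  | x :: l => Nat.blt x certA.N &&
      (l.all fun y => certA.relB commMask x y && !(Nat.beq x y)) && goodList l

/-- the bits of a list -/
noncomputable def maskOf (l : List ℕ) : ℕ := l.foldl (fun m v => m ||| Nat.shiftLeft 1 v) 0

/-- the sums of at most three of the listed vectors -/
noncomputable def smallSums : List ℕ :=
  let ts := frameTrans.map Prod.fst
  0 :: ts ++ ((List.range ts.length).flatMap fun i => (List.range i).flatMap fun j =>
    (nth ts i 0 ^^^ nth ts j 0) :: (List.range j).map fun k => nth ts i 0 ^^^ nth ts j 0 ^^^ nth ts k 0)

/-- the displacement of a residue from its rows -/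
noncomputable def rowDisp (i v : ℕ) : ℕ := Fi23Syl.sUp (fun j => nth (nthWord resRows i) j 0) 11 v

/-- the vector with the given coordinates -/
noncomputable def fourVec (i c : ℕ) : ℕ := Fi23Syl.sUp (fun j => nth (nthWord resFour i) j 0) 4 c

/-- the classes of involutions of a residue under the elementary abelian subgroup -/
noncomputable def classBits (i : ℕ) : ℕ :=
  maskOf ((List.range 8).flatMap fun r => (List.range 16).map fun c =>
    nth (nthWord resReps i) r 0 ^^^ rowDisp i (fourVec i c))

/-- the involutions of a residue are in the listed classes -/
noncomputable def solOK (i : ℕ) : Bool :=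
  strict (classBits i) fun M => strict (nth resSquare i 0) fun s =>
    Fi23Syl.allBelow 2048 fun v => !(Nat.beq (rowDisp i v) s) || M.testBit v

/-- a residue does not act as an involution, or is trivial, or is listed -/
noncomputable def residueOK (e : ℕ) : Bool :=
  Nat.beq e 0 || (residues.any fun f => Nat.beq f e) ||
    (List.range 11).any fun j => !(Nat.beq (Fi23Syl.act e (Fi23Syl.act e (2 ^ j))) (2 ^ j))

/-- the rows and square of a listed residue -/
noncomputable def rowsOK (i : ℕ) : Bool :=
  Nat.blt (nth residues i 128) 128 &&
  ((List.range 11).all fun j =>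
    Nat.beq (Fi23Syl.disp (nth residues i 128) (2 ^ j)) (nth (nthWord resRows i) j 0)) &&
  ((List.range 4).all fun j => Nat.blt (nth (nthWord resFour i) j 0) 2048) &&
  Nat.blt (nth resSquare i 2048) 2048 &&
  Fi23Syl.same (Fi23Syl.rW 7 (nth residues i 128) ++ Fi23Syl.rW 7 (nth residues i 128))
    (Fi23Syl.aW (nth resSquare i 0))

/-- the representatives are products of the listed transpositions -/
noncomputable def witOK (i : ℕ) : Bool :=
  (List.range 8).all fun r =>
    Nat.blt 0 ((resWit.getD i []).getD r []).length &&
    Nat.blt ((resWit.getD i []).getD r []).length 4 &&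
    goodList ((resWit.getD i []).getD r []) &&
    Nat.blt (nth (nthWord resReps i) r 2048) 2048 &&
    Fi23Syl.same (Fi23Syl.aW (nth (nthWord resReps i) r 0) ++ Fi23Syl.rW 7 (nth residues i 128))
      (prodWord ((resWit.getD i []).getD r []))

/-- each listed vector is the transposition of its coset -/
noncomputable def frameOK : Bool :=
  frameTrans.all fun p => Nat.blt p.1 2048 && Nat.blt p.2 certA.N &&
    Fi23Syl.same (Fi23Syl.aW p.1) (TransCent.dWord certA zWord p.2)

/-- common neighbours of the first two standard cosets are in the orbit -/
noncomputable def tripleAt (M : ℕ) (x : ℕ) : Bool :=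
  strict x fun x => pick (Nat.testBit subMask0 x)
    (pick (certA.relB commMask 53 x) (Nat.beq x 53 || M.testBit x) true) true

/-- a fixed coset of a standard product is one of its factors or is separated, and commutes with the factors -/
noncomputable def universalAt (w T W : List ℕ) (x : ℕ) : Bool :=
  strict x fun x => pick (Nat.beq (certA.run x (certA.revInv w)) x)
    (band (T.all fun t => certA.relB commMask t x)
      ((T.any fun t => Nat.beq t x) || W.any fun y => !(certA.relB commMask y x))) true

end CfsgLib.Fi23Inv
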