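import Cfsg.Agent.Lib.Fi23Inv.Classes

/-!
Involutions and frames of transpositions in a copy of Fi23.
-/

set_option autoImplicit false

namespace CfsgLib.Fi23Inv

open Cfsg.Spor CfsgLib.Fi23Pres

variable {G : Type*} [Group G] {D : Set G}

theorem symm_image (Φ : Fi23 ≃* G) (hΦ : Φ '' transClass = D) : Φ.symm '' D = transClass := by
  rw [← hΦ, Set.image_image]; simp

theorem type_frame_conj (Φ : Fi23 ≃* G) (hΦ : Φ '' transClass = D) {l l' : List G} (h : Frame D l)
    (h' : Frame D l') (hl : l.length = l'.length) : ∃ g : G, l.map (MulAut.conj g) = l' := by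
  obtain ⟨g, hg⟩ := frame_conj (symm_image Φ hΦ ▸ h.map Φ.symm) (symm_image Φ hΦ ▸ h'.map Φ.symm)
    (by simpa using hl)
  refine ⟨Φ g, ?_⟩
  have := congrArg (List.map Φ) hg
  simp only [List.map_map] at this
  rw [show (Φ ∘ Φ.symm : G → G) = id from funext fun x => Φ.apply_symm_apply x, List.map_id] at this
  rw [← this]
  refine List.map_congr_left fun x _ => ?_
  simp

theorem type_frame_universal (Φ : Fi23 ≃* G) (hΦ : Φ '' transClass = D) {l : List G} (h : Frame D l)
    (d : G) : IsUniversal D l.prod d ↔ d ∈ l := by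
  have hs := symm_image Φ hΦ
  have h' : Frame transClass (l.map Φ.symm) := hs ▸ h.map Φ.symm
  constructor
  · intro hd
    have h1 : IsUniversal transClass (l.map Φ.symm).prod (Φ.symm d) := by
      have := hd.map Φ.symm
      rwa [hs, map_list_prod] at this
    obtain ⟨x, hx, e⟩ := List.mem_map.mp ((frame_universal h' _).mp h1)
    exact Φ.symm.injective e ▸ hx
  · intro hd
    have := ((frame_universal h' (Φ.symm d)).mpr (List.mem_map_of_mem hd)).map Φ
    rwa [hΦ, ← map_list_prod, Φ.apply_symm_apply, Φ.apply_symm_apply] at this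

theorem type_involution (Φ : Fi23 ≃* G) (hΦ : Φ '' transClass = D) {x : G} (hx : orderOf x = 2) :
    ∃ l, Frame D l ∧ l.prod = x := by
  obtain ⟨l, hl, e⟩ := involution_frame (x := Φ.symm x)
    (by rw [← hx]; exact MulEquiv.orderOf_eq Φ.symm x)
  refine ⟨l.map Φ, hΦ ▸ hl.map Φ, ?_⟩
  rw [← map_list_prod, e, Φ.apply_symm_apply]

/-- The product of a frame is an involution. -/
theorem frame_order [Finite G] (Φ : Fi23 ≃* G) (hΦ : Φ '' transClass = D) {l : List G} (h : Frame D l) :
    orderOf l.prod = 2 := by
  have hsq : ∀ a ∈ D, orderOf a = 2 := by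
    intro a ha
    rw [← hΦ] at ha
    obtain ⟨b, hb, rfl⟩ := ha
    rw [MulEquiv.orderOf_eq]
    exact transClass_three.1.1 b hb
  haveI : Fact (Nat.Prime 2) := ⟨Nat.prime_two⟩
  refine orderOf_eq_prime ?_ ?_
  · have key : ∀ t : List G, (∀ a ∈ t, a * a = 1) → (∀ a ∈ t, ∀ b ∈ t, Commute a b) → t.prod ^ 2 = 1 := by
      intro t
      induction t with
      | nil => simp
      | cons a t ih =>
        intro h1 h2
        have hc : Commute a t.prod :=
          Commute.list_prod_right _ _ fun b hb => h2 a (by simp) b (List.mem_cons_of_mem _ hb)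
        rw [List.prod_cons, hc.mul_pow, ih (fun b hb => h1 b (List.mem_cons_of_mem _ hb))
          (fun b hb c hc => h2 b (List.mem_cons_of_mem _ hb) c (List.mem_cons_of_mem _ hc)), mul_one,
          pow_two]
        exact h1 a (by simp)
    refine key l (fun a ha => ?_) h.comm
    have := pow_orderOf_eq_one a
    rwa [hsq a (h.mem a ha), pow_two] at this
  · intro h1
    obtain ⟨a, ha⟩ : ∃ a, a ∈ l := List.exists_mem_of_length_pos h.pos
    obtain ⟨-, -, hu⟩ := (type_frame_universal Φ hΦ h a).mpr ha
    have haD := h.mem a ha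
    rw [← hΦ] at haD
    obtain ⟨b, hb, rfl⟩ := haD
    have hb' : ∀ f ∈ transClass, Commute b f := fun f hf => by
      have := (hu (Φ f) (hΦ ▸ Set.mem_image_of_mem _ hf) (by rw [h1]; exact Commute.one_right _)).map Φ.symm
      simpa using this
    have htop : Subgroup.closure transClass = ⊤ := transClass_three.2.2
    have hcen : ∀ y : Fi23, Commute b y := by
      intro y
      have : y ∈ Subgroup.centralizer ({b} : Set Fi23) :=
        ((Subgroup.closure_le _).mpr fun f hf =>
          Subgroup.mem_centralizer_singleton_iff.mpr (hb' f hf).eq.symm) (htop ▸ Subgroup.mem_top y)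
      exact (Subgroup.mem_centralizer_singleton_iff.mp this).symm
    have hb1 : b = 1 := by
      apply card_faithful.2
      rw [map_one]
      ext z
      have e := setupA.conjAt_smul comm_central b z
      rw [(hcen _).eq, mul_inv_cancel_right] at e
      rw [← graph.injective e]
      rfl
    have := hsq (Φ b) (h.mem _ ha)
    rw [hb1, map_one, orderOf_one] at this
    norm_num at this

end CfsgLib.Fi23Inv
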