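import Cfsg.Agent.Lib.Fi23Inv.CheckTriple
import Cfsg.Agent.Lib.Fi23Cent.Env
import Cfsg.Agent.Lib.Fi23Cent.Assembly

/-!
Lists of at most three commuting transpositions of the presented group Fi23.
-/

set_option autoImplicit false
set_option linter.style.haveILetI false
set_option maxRecDepth 100000

namespace CfsgLib.Fi23Inv

open CfsgLib.CosetEnum CfsgLib.Fi23Pres CfsgLib Cfsg.Spor
open CfsgLib.Fi23Cent (env class_iff)

/-- distinct commuting members of a class, at least one and at most three -/
structure Frame {G : Type*} [Group G] (D : Set G) (l : List G) : Prop where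
  nodup : l.Nodup
  pos : 1 ≤ l.length
  le : l.length ≤ 3
  mem : ∀ a ∈ l, a ∈ D
  comm : ∀ a ∈ l, ∀ b ∈ l, Commute a b

theorem Frame.map {G H : Type*} [Group G] [Group H] (e : G ≃* H) {D : Set G} {l : List G}
    (h : Frame D l) : Frame (e '' D) (l.map e) where
  nodup := h.nodup.map e.injective
  pos := by rw [List.length_map]; exact h.pos
  le := by rw [List.length_map]; exact h.le
  mem := by
    intro a ha
    obtain ⟨x, hx, rfl⟩ := List.mem_map.mp ha
    exact Set.mem_image_of_mem _ (h.mem x hx)
  comm := by
    intro a ha b hb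
    obtain ⟨x, hx, rfl⟩ := List.mem_map.mp ha
    obtain ⟨y, hy, rfl⟩ := List.mem_map.mp hb
    exact (h.comm x hx y hy).map e

/-- the members of the class commuting with `x` and with all members commuting with `x` -/
def IsUniversal {G : Type*} [Group G] (D : Set G) (x d : G) : Prop :=
  d ∈ D ∧ Commute d x ∧ ∀ e ∈ D, Commute e x → Commute d e

theorem IsUniversal.map {G H : Type*} [Group G] [Group H] (e : G ≃* H) {D : Set G} {x d : G}
    (h : IsUniversal D x d) : IsUniversal (e '' D) (e x) (e d) := by
  refine ⟨Set.mem_image_of_mem _ h.1, h.2.1.map e, ?_⟩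
  rintro _ ⟨y, hy, rfl⟩ hc
  refine (h.2.2 y hy ?_).map e
  simpa using hc.map e.symm

/-- the transposition of a coset -/
noncomputable def tr (x : ℕ) : Fi23 := conjAt certA gen central x

theorem tr_mem (x : Fin certA.N) : tr x ∈ transClass := (class_iff _).mpr ⟨x, rfl⟩

theorem conj_tr (g : Fi23) (x : Fin certA.N) : MulAut.conj g (tr x) = tr (rho g x) :=
  setupA.conjAt_smul comm_central g x

theorem tr_zero : tr 0 = central := setupA.conjAt_base central

theorem goodList_spec : ∀ {l : List ℕ}, goodList l = true →
    (∀ x ∈ l, x < certA.N) ∧ (l.map tr).Nodup ∧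
      ∀ a ∈ l.map tr, ∀ b ∈ l.map tr, Commute a b
  | [], _ => by simp
  | x :: l, h => by
    simp only [goodList, Bool.and_eq_true, Nat.blt_eq, List.all_eq_true, Bool.not_eq_true'] at h
    obtain ⟨⟨hx, hl⟩, hrest⟩ := h
    obtain ⟨h1, h2, h3⟩ := goodList_spec hrest
    have hall : ∀ x' ∈ x :: l, x' < certA.N := by
      intro y hy
      rcases List.mem_cons.mp hy with rfl | hy
      exacts [hx, h1 y hy]
    have hc : ∀ y ∈ l, Commute (tr x) (tr y) := fun y hy =>
      (env.graph.commute_iff env.rep ⟨x, hx⟩ ⟨y, h1 y hy⟩).mp (hl y hy).1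
    refine ⟨hall, ?_, ?_⟩
    · rw [List.map_cons, List.nodup_cons]
      refine ⟨fun hm => ?_, h2⟩
      obtain ⟨y, hy, e⟩ := List.mem_map.mp hm
      have e' : (⟨y, h1 y hy⟩ : Fin certA.N) = ⟨x, hx⟩ := env.graph.injective e
      have h' := Nat.ne_of_beq_eq_false (hl y hy).2
      exact h' (congrArg Fin.val e').symm
    · intro a ha b hb
      rw [List.map_cons, List.mem_cons] at ha hb
      rcases ha with rfl | ha <;> rcases hb with rfl | hb
      · exact Commute.refl _
      · obtain ⟨y, hy, rfl⟩ := List.mem_map.mp hb
        exact hc y hy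
      · obtain ⟨y, hy, rfl⟩ := List.mem_map.mp ha
        exact (hc y hy).symm
      · exact h3 a ha b hb

theorem frame_of_good {l : List ℕ} (h : goodList l = true) (h1 : 1 ≤ l.length) (h3 : l.length ≤ 3) :
    Frame transClass (l.map tr) := by
  obtain ⟨a, b, c⟩ := goodList_spec h
  refine ⟨b, by simpa using h1, by simpa using h3, fun y hy => ?_, c⟩
  obtain ⟨x, hx, rfl⟩ := List.mem_map.mp hy
  exact tr_mem ⟨x, a x hx⟩

theorem triple_scan {x : ℕ} (hx : x < certA.N) : tripleAt tripleMask x = true := by
  refine Cert.allPts_spec (Cert.allPts_of_blockPts (k := 13) (b := 4) (by decide +kernel)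
    (by decide +kernel) fun j hj => ?_) x hx
  match j, hj with
  | 0, _ => exact strict_eq tripleMask (fun M => Cert.blockPts certA.N (tripleAt M) 13 0) ▸ triple_scan0
  | 1, _ => exact strict_eq tripleMask (fun M => Cert.blockPts certA.N (tripleAt M) 13 1) ▸ triple_scan1
  | 2, _ => exact strict_eq tripleMask (fun M => Cert.blockPts certA.N (tripleAt M) 13 2) ▸ triple_scan2
  | 3, _ => exact strict_eq tripleMask (fun M => Cert.blockPts certA.N (tripleAt M) 13 3) ▸ triple_scan3
  | n + 4, h => omega

theorem base_pairs : (0 : ℕ) < certA.N ∧ 53 < certA.N ∧ third < certA.N := by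
  have h := third_ok
  rw [Bool.and_eq_true] at h
  obtain ⟨a, -, -⟩ := goodList_spec h.2
  exact ⟨a 0 (by simp), a 53 (by simp), a third (by simp)⟩

/-- every frame is conjugate to an initial segment of the standard triple -/
theorem frame_standard {l : List Fi23} (h : Frame transClass l) :
    ∃ g : Fi23, l.map (MulAut.conj g) = ([tr 0, tr 53, tr third].take l.length) := by
  obtain ⟨hnd, hpos, hle, hmem, hcomm⟩ := h
  obtain ⟨-, h53, h3⟩ := base_pairs
  obtain ⟨a, l, rfl⟩ : ∃ a t, l = a :: t := by
    cases l with
    | nil => simp at hpos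
    | cons a t => exact ⟨a, t, rfl⟩
  obtain ⟨c, hc⟩ := isConj_iff.mp (show IsConj central a from hmem a (by simp))
  set g₁ := c⁻¹
  have e1 : MulAut.conj g₁ a = tr 0 := by
    rw [tr_zero, ← hc]; simp [g₁, mul_assoc]
  cases l with
  | nil => exact ⟨g₁, by simp [e1]⟩
  | cons b l =>
    obtain ⟨y, hy⟩ := (class_iff b).mp (hmem b (by simp))
    have eb : MulAut.conj g₁ b = tr (rho g₁ y) := by rw [← hy]; exact conj_tr g₁ y
    set z := rho g₁ y
    have hcz : Commute (tr 0) (tr z) := by
      rw [← e1, ← eb]; exact (hcomm a (by simp) b (by simp)).map _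
    have hz0 : (z : ℕ) ≠ 0 := fun e => by
      have : MulAut.conj g₁ b = MulAut.conj g₁ a := by rw [eb, e1, e]
      have hab := (MulAut.conj g₁).injective this
      rw [hab] at hnd
      simp at hnd
    have hm : subMask0.testBit z = true := by
      have hc' : commMask.testBit z = true := (graph.mask z).mpr (by rw [tr_zero] at hcz; exact hcz)
      rw [commMask, Nat.testBit_or, Bool.or_eq_true, Nat.testBit_one_eq_true_iff_self_eq_zero] at hc'
      exact hc'.resolve_left hz0
    obtain ⟨k, hk, ek⟩ := (setupA.orbit_mem_iff subMask0_orbit z).mpr hm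
    set g₂ := k⁻¹ * g₁
    have e1' : MulAut.conj g₂ a = tr 0 := by
      rw [map_mul, MulAut.mul_apply, e1, tr_zero, MulAut.conj_apply, inv_inv]
      have h' := comm_central k⁻¹ (inv_mem hk)
      rw [h', inv_mul_cancel_right]
    have eb' : MulAut.conj g₂ b = tr 53 := by
      rw [map_mul, MulAut.mul_apply, eb, conj_tr, map_inv, ← ek]
      simp
    cases l with
    | nil => exact ⟨g₂, by simp [e1', eb']⟩
    | cons d l =>
      obtain rfl : l = [] := List.eq_nil_of_length_eq_zero (by simp at hle; omega)
      obtain ⟨y', hy'⟩ := (class_iff d).mp (hmem d (by simp))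
      have ed : MulAut.conj g₂ d = tr (rho g₂ y') := by rw [← hy']; exact conj_tr g₂ y'
      set w := rho g₂ y'
      have h0w : Commute (tr 0) (tr w) := by
        rw [← e1', ← ed]; exact (hcomm a (by simp) d (by simp)).map _
      have h5w : Commute (tr 53) (tr w) := by
        rw [← eb', ← ed]; exact (hcomm b (by simp) d (by simp)).map _
      have hw0 : (w : ℕ) ≠ 0 := fun e => by
        have : MulAut.conj g₂ d = MulAut.conj g₂ a := by rw [ed, e1', e]
        rw [(MulAut.conj g₂).injective this] at hnd
        simp at hnd
      have hw5 : (w : ℕ) ≠ 53 := fun e => by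
        have : MulAut.conj g₂ d = MulAut.conj g₂ b := by rw [ed, eb', e]
        rw [(MulAut.conj g₂).injective this] at hnd
        simp at hnd
      have hwm : subMask0.testBit w = true := by
        have hc' : commMask.testBit w = true := (graph.mask w).mpr (by rw [tr_zero] at h0w; exact h0w)
        rw [commMask, Nat.testBit_or, Bool.or_eq_true, Nat.testBit_one_eq_true_iff_self_eq_zero] at hc'
        exact hc'.resolve_left hw0
      have hr : certA.relB commMask 53 w = true :=
        (env.graph.commute_iff env.rep ⟨53, h53⟩ w).mpr h5w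
      have hs := triple_scan w.2
      unfold tripleAt at hs
      simp only [strict_eq] at hs
      rw [hwm, pick_true, hr, pick_true, Bool.or_eq_true] at hs
      have hbit : tripleMask.testBit w = true :=
        hs.resolve_left fun e => hw5 (Nat.eq_of_beq_eq_true e)
      have hgens := triple_gens
      simp only [List.all_eq_true, Bool.and_eq_true, Nat.blt_eq] at hgens
      cases hm2 : reach certA pairGens pairTree (2 ^ third) with
      | none => have := triple_reach; rw [hm2] at this; simp at this
      | some M =>
        rw [tripleMask, hm2, Option.getD_some] at hbit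
        obtain ⟨hw', k', hk0, hk5, hk'⟩ := reach_spec
          (P := fun v => ∃ hv : v < certA.N, ∃ k : Fi23, MulAut.conj k (tr 0) = tr 0 ∧
            MulAut.conj k (tr 53) = tr 53 ∧ rho k ⟨third, h3⟩ = ⟨v, hv⟩)
          (by
            rintro v i hi ⟨hv, k, k0, k5, kv⟩
            set u := pairGens.getD i []
            have hu : u ∈ pairGens := by
              simp only [u, List.getD_eq_getElem _ _ hi]; exact List.getElem_mem hi
            obtain ⟨⟨hlt, hf0⟩, hf5⟩ := hgens u hu
            have hlt' : ∀ g ∈ u, g < certA.K := fun g hg => hlt g hg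
            have erun : ∀ x : Fin certA.N, (rho (prodW gen u) x : ℕ) = certA.run x (certA.revInv u) :=
              fun x => setupA.rho_prodW hlt' x
            refine ⟨erun ⟨v, hv⟩ ▸ Fin.isLt _, prodW gen u * k, ?_, ?_, ?_⟩
            · rw [map_mul, MulAut.mul_apply, k0]
              refine (conj_tr _ ⟨0, by omega⟩).trans (congrArg tr ?_)
              exact (erun _).trans (Nat.eq_of_beq_eq_true hf0)
            · rw [map_mul, MulAut.mul_apply, k5]
              refine (conj_tr _ ⟨53, h53⟩).trans (congrArg tr ?_)
              exact (erun _).trans (Nat.eq_of_beq_eq_true hf5)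
            · rw [map_mul, Equiv.Perm.mul_apply, kv]
              exact Fin.ext (erun _))
          pairTree _ _ hm2
          (fun v hv => by
            rw [Nat.testBit_two_pow, decide_eq_true_eq] at hv
            subst hv
            exact ⟨h3, 1, by simp, by simp, by simp⟩) w hbit
        refine ⟨k'⁻¹ * g₂, ?_⟩
        have inv : ∀ {u v : Fi23}, MulAut.conj k' u = v → MulAut.conj k'⁻¹ v = u := fun {u v} e => by
          rw [← e, map_inv, MulAut.inv_apply, MulEquiv.symm_apply_apply]
        have e3 : MulAut.conj k'⁻¹ (tr w) = tr third := inv (by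
          rw [show third = ((⟨third, h3⟩ : Fin certA.N) : ℕ) from rfl, conj_tr, hk'])
        simp only [List.map_cons, List.map_nil, List.length_cons, List.length_nil, map_mul,
          MulAut.mul_apply, e1', eb', ed, inv hk0, inv hk5, e3]
        rfl

/-- Frames of the same length are conjugate. -/
theorem frame_conj {l l' : List Fi23} (h : Frame transClass l) (h' : Frame transClass l')
    (hl : l.length = l'.length) : ∃ g : Fi23, l.map (MulAut.conj g) = l' := by
  obtain ⟨a, ha⟩ := frame_standard h
  obtain ⟨b, hb⟩ := frame_standard h'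
  refine ⟨b⁻¹ * a, ?_⟩
  rw [← hl, ← ha] at hb
  have := congrArg (List.map (MulAut.conj b).symm) hb
  simp only [List.map_map] at this
  rw [show ((MulAut.conj b).symm ∘ MulAut.conj b : Fi23 → Fi23) = id from
    funext fun x => MulEquiv.symm_apply_apply _ x, List.map_id] at this
  rw [this]
  refine List.map_congr_left fun x _ => ?_
  simp [mul_assoc]

theorem universal_check {w T W : List ℕ} (hw : ∀ g ∈ w, g < certA.K)
    (hscan : ∀ x < certA.N, universalAt w T W x = true)
    (hsep : ((T ++ W).all fun y => Nat.blt y certA.N && Nat.beq (certA.run y (certA.revInv w)) y) = true)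
    (d : Fi23) : IsUniversal transClass (prodW gen w) d ↔ d ∈ T.map tr := by
  simp only [List.all_eq_true, Bool.and_eq_true, Nat.blt_eq] at hsep
  have hfix : ∀ x : Fin certA.N,
      Commute (tr x) (prodW gen w) ↔ Nat.beq (certA.run x (certA.revInv w)) x = true := fun x => by
    rw [← setupA.rho_prodW hw]
    refine ⟨fun h => ?_, fun h => ((env.fix_iff _ x).mp (Fin.ext (Nat.eq_of_beq_eq_true h))).symm⟩
    rw [(env.fix_iff _ x).mpr h.symm]
    exact Nat.beq_refl _
  have hcheck : ∀ x : Fin certA.N, Commute (tr x) (prodW gen w) →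
      (∀ t ∈ T, certA.relB commMask t x = true) ∧
        ((∃ t ∈ T, Nat.beq t x = true) ∨ ∃ y ∈ W, certA.relB commMask y x = false) := fun x hx => by
    have h := hscan x x.2
    unfold universalAt at h
    simp only [strict_eq] at h
    rw [(hfix x).mp hx, pick_true, band_eq_true, Bool.or_eq_true] at h
    simpa only [List.all_eq_true, List.any_eq_true, Bool.not_eq_true'] using h
  constructor
  · rintro ⟨hd, hc, hu⟩
    obtain ⟨x, rfl⟩ := (class_iff d).mp hd
    rcases (hcheck x hc).2 with ⟨t, ht, e⟩ | ⟨y, hy, e⟩
    · exact List.mem_map.mpr ⟨t, ht, by rw [Nat.eq_of_beq_eq_true e]; rfl⟩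
    · exfalso
      obtain ⟨hyN, hyf⟩ := hsep y (List.mem_append_right _ hy)
      have hcy : Commute (tr x) (tr y) := hu _ (tr_mem ⟨y, hyN⟩) ((hfix ⟨y, hyN⟩).mpr hyf)
      rw [show certA.relB commMask y x = true from
        (env.graph.commute_iff env.rep ⟨y, hyN⟩ x).mpr hcy.symm] at e
      simp at e
  · intro hd
    obtain ⟨t, ht, rfl⟩ := List.mem_map.mp hd
    obtain ⟨htN, htf⟩ := hsep t (List.mem_append_left _ ht)
    refine ⟨tr_mem ⟨t, htN⟩, (hfix ⟨t, htN⟩).mpr htf, fun e he hec => ?_⟩
    obtain ⟨x, rfl⟩ := (class_iff e).mp he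
    exact (env.graph.commute_iff env.rep ⟨t, htN⟩ x).mp ((hcheck x hec).1 t ht)

theorem tr_letter {i : ℕ} (hi : i < 10) : tr (stdTuple.getD (i + 1) 0) = gen i := by
  obtain ⟨-, h2⟩ := std_spec (i + 1) (by omega)
  refine h2.trans ?_
  have e : famWord (i + 1) = [i] := by
    unfold famWord
    rw [show Nat.beq (i + 1) 0 = false from rfl, pick_false]
    simp
  simp [family, e]

theorem standard_frames (m : ℕ) (h1 : 1 ≤ m) (h3 : m ≤ 3) :
    ∃ l : List Fi23, Frame transClass l ∧ l.length = m ∧
      ∀ d, IsUniversal transClass l.prod d ↔ d ∈ l := by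
  have lt : ∀ w : List ℕ, (w.all fun g => Nat.blt g 10) = true → ∀ g ∈ w, g < certA.K :=
    fun w hw => lt_of_blt hw
  have s1 : tr 11589 = gen 0 := tr_letter (i := 0) (by norm_num)
  have s2 : tr 8005 = gen 2 := tr_letter (i := 2) (by norm_num)
  have s3 : tr 8002 = gen 4 := tr_letter (i := 4) (by norm_num)
  interval_cases m
  · refine ⟨[11589].map tr, frame_of_good standard1_ok (by simp) (by simp), rfl, fun d => ?_⟩
    have h := universal_check (lt [0] rfl) (fun x hx => ?_) universal1_sep d
    · rw [show prodW gen [0] = ([11589].map tr).prod by simp [s1]] at h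
      exact h
    · refine Cert.allPts_spec (Cert.allPts_of_blockPts (k := 13) (b := 4) (by decide +kernel)
        (by decide +kernel) fun j hj => ?_) x hx
      match j, hj with
      | 0, _ => exact universal1_scan0
      | 1, _ => exact universal1_scan1
      | 2, _ => exact universal1_scan2
      | 3, _ => exact universal1_scan3
      | n + 4, h => omega
  · refine ⟨[11589, 8005].map tr, frame_of_good standard2_ok (by simp) (by simp), rfl, fun d => ?_⟩
    have h := universal_check (lt [0, 2] rfl) (fun x hx => ?_) universal2_sep d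
    · rw [show prodW gen [0, 2] = ([11589, 8005].map tr).prod by simp [s1, s2]] at h
      exact h
    · refine Cert.allPts_spec (Cert.allPts_of_blockPts (k := 13) (b := 4) (by decide +kernel)
        (by decide +kernel) fun j hj => ?_) x hx
      match j, hj with
      | 0, _ => exact universal2_scan0
      | 1, _ => exact universal2_scan1
      | 2, _ => exact universal2_scan2
      | 3, _ => exact universal2_scan3
      | n + 4, h => omega
  · refine ⟨[11589, 8005, 8002].map tr, frame_of_good standard3_ok (by simp) (by simp), rfl, fun d => ?_⟩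
    have h := universal_check (lt [0, 2, 4] rfl) (fun x hx => ?_) universal3_sep d
    · rw [show prodW gen [0, 2, 4] = ([11589, 8005, 8002].map tr).prod by simp [s1, s2, s3]] at h
      exact h
    · refine Cert.allPts_spec (Cert.allPts_of_blockPts (k := 13) (b := 4) (by decide +kernel)
        (by decide +kernel) fun j hj => ?_) x hx
      match j, hj with
      | 0, _ => exact universal3_scan0
      | 1, _ => exact universal3_scan1
      | 2, _ => exact universal3_scan2
      | 3, _ => exact universal3_scan3
      | n + 4, h => omega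

/-- The members of a frame are determined by their product. -/
theorem frame_universal {l : List Fi23} (h : Frame transClass l) (d : Fi23) :
    IsUniversal transClass l.prod d ↔ d ∈ l := by
  obtain ⟨l₀, h₀, hlen, hu⟩ := standard_frames l.length h.pos h.le
  obtain ⟨g, hg⟩ := frame_conj h h₀ hlen.symm
  have hp : MulAut.conj g l.prod = l₀.prod := by rw [← hg, map_list_prod]
  constructor
  · intro hd
    have := hd.map (MulAut.conj g)
    rw [Fi23Cent.conj_class, hp, hu, ← hg, List.mem_map] at this
    obtain ⟨x, hx, e⟩ := this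
    exact (MulAut.conj g).injective e ▸ hx
  · intro hd
    have hm : MulAut.conj g d ∈ l₀ := by rw [← hg]; exact List.mem_map_of_mem hd
    have := ((hu _).mpr hm).map (MulAut.conj g).symm
    rw [← hp, MulEquiv.symm_apply_apply, MulEquiv.symm_apply_apply] at this
    have hD : (MulAut.conj g).symm '' transClass = transClass := by
      conv_lhs => rw [← Fi23Cent.conj_class g, Set.image_image]
      simp [mul_assoc]
    rwa [hD] at this

end CfsgLib.Fi23Inv
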